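import Cfsg.Agent.Lib.Spor.JFourPres.Lev1
import Cfsg.Agent.Lib.Spor.JFourPres.Lev2
import Cfsg.Agent.Lib.Spor.JFourPres.Lev3
import Cfsg.Agent.Lib.Spor.JFourPres.Lev4
import Mathlib.GroupTheory.OrderOfElement
import Mathlib.Tactic.IntervalCases
import Mathlib.Data.ZMod.QuotientGroup

/-!
A group satisfying the seven relations of the x, y presentation has at most three times the order of M24.
-/

set_option autoImplicit false
set_option maxRecDepth 100000

namespace Cfsg.Agent.Spor.JFour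

open Cfsg.Agent.Spor.PC

variable {G : Type*} [Group G]

/-- value of a word -/
def wordEval (g : ℕ → G) (l : List ℕ) : G := (l.map g).prod

theorem wd_nil (g : ℕ → G) : wordEval g [] = 1 := rfl

theorem wd_cons (g : ℕ → G) (a : ℕ) (l : List ℕ) : wordEval g (a :: l) = g a * wordEval g l := by simp [wordEval]

theorem wd_app (g : ℕ → G) (u v : List ℕ) : wordEval g (u ++ v) = wordEval g u * wordEval g v := by simp [wordEval]

theorem wd_rep (g : ℕ → G) (w : List ℕ) : ∀ n, wordEval g (List.replicate n w).flatten = wordEval g w ^ n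
  | 0 => by simp [wordEval]
  | n + 1 => by rw [List.replicate_succ, List.flatten_cons, wd_app, wd_rep g w n, pow_succ']

/-- the letters x, y and the inverse of y -/
def gl (x y : G) : ℕ → G
  | 0 => x
  | 1 => y
  | 2 => y⁻¹
  | _ => 1

/-- the letters a, b and their inverses -/
def gk (a b : G) : ℕ → G
  | 0 => a
  | 1 => a⁻¹
  | 2 => b
  | 3 => b⁻¹
  | _ => 1

/-- the word w -/
def lw : List ℕ := [0, 1, 0, 1, 0, 2, 0]
/-- the inverse of w -/
def lw' : List ℕ := [0, 1, 0, 2, 0, 2, 0]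
/-- the word c -/
def lcList : List ℕ := [0, 2, 0, 1, 0, 1, 0, 2, 0, 1, 0, 2, 0, 2, 0, 1, 0, 1, 0, 2, 0, 1, 0]
/-- the inverse of c -/
def lc' : List ℕ := [0, 2, 0, 1, 0, 2, 0, 2, 0, 1, 0, 1, 0, 2, 0, 1, 0, 2, 0, 2, 0, 1, 0]

/-- relator and cancellation words -/
def lrel : List (List ℕ) := [[0, 0], [1, 1, 1], (List.replicate 23 [0, 1]).flatten,
  (List.replicate 12 [0, 2, 0, 1]).flatten, (List.replicate 5 [0, 2, 0, 2, 0, 1, 0, 1]).flatten,
  (List.replicate 4 ([0, 1] ++ (List.replicate 3 [0, 1, 0, 2]).flatten)).flatten,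
  (List.replicate 3 [0, 1, 0, 1, 0, 2]).flatten ++ (List.replicate 3 [0, 1, 0, 2, 0, 2]).flatten,
  [0, 0], [1, 2], [2, 1]]

/-- the seven relations -/
structure Rels (x y : G) : Prop where
  xx : x ^ 2 = 1
  y3 : y ^ 3 = 1
  r2 : (x * y) ^ 23 = 1
  r3 : (x⁻¹ * y⁻¹ * x * y) ^ 12 = 1
  r4 : (x⁻¹ * (y * x * y)⁻¹ * x * (y * x * y)) ^ 5 = 1
  r5 : (x * y * ((x * y * x * (y⁻¹)) ^ 3)) ^ 4 = 1
  r6 : ((x * y * x * y * x * (y⁻¹)) ^ 3) * ((x * y * x * (y⁻¹) * x * (y⁻¹)) ^ 3) = 1

variable {x y : G}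

theorem Rels.x_inv (h : Rels x y) : x⁻¹ = x := inv_eq_of_mul_eq_one_right (by rw [← pow_two, h.xx])

theorem Rels.wd_one (h : Rels x y) : ∀ l ∈ lrel, wordEval (gl x y) l = 1 := by
  intro l hl
  have xi := h.x_inv
  have xx : x * x = 1 := by rw [← pow_two, h.xx]
  simp only [lrel, List.mem_cons, List.not_mem_nil, or_false] at hl
  rcases hl with rfl | rfl | rfl | rfl | rfl | rfl | rfl | rfl | rfl | rfl
  · simpa [wordEval, gl] using xx
  · rw [← h.y3]; simp [wordEval, gl, pow_succ, mul_assoc]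
  · rw [wd_rep, ← h.r2]; simp [wordEval, gl]
  · rw [wd_rep, ← h.r3]; simp [wordEval, gl, xi, mul_assoc]
  · rw [wd_rep, ← h.r4]; simp [wordEval, gl, xi, mul_assoc]
  · rw [wd_rep, wd_app, wd_rep, ← h.r5]; simp [wordEval, gl, mul_assoc]
  · rw [wd_app, wd_rep, wd_rep, ← h.r6]; simp [wordEval, gl, mul_assoc]
  · simpa [wordEval, gl] using xx
  · simp [wordEval, gl]
  · simp [wordEval, gl]

theorem Rels.iv_ok (h : Rels x y) : ∀ k, k < 16 → gl x y (ivL Lev3.dat.iw k) = (gl x y k)⁻¹ := by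
  have e : (List.range 16).map (ivL Lev3.dat.iw) = [0, 2, 1, 3, 4, 5, 6, 7, 8, 9, 10, 11, 12, 13, 14, 15] := by
    decide +kernel
  intro k hk
  have e' : ivL Lev3.dat.iw k = [0, 2, 1, 3, 4, 5, 6, 7, 8, 9, 10, 11, 12, 13, 14, 15].getD k 0 := by
    rw [← e]; simp [hk]
  rw [e']
  interval_cases k <;> simp [gl, h.x_inv]

theorem w1_words : ((List.range 10).map fun k => wDecode (fld Lev1.dat.words 512 k)) = lrel ∧
    ((List.range 4).map fun k => wDecode (fld Lev1.dat.words 512 (10 + k))) =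
      [[1, 1, 1], lw ++ lw ++ lw, (List.replicate 5 ([2] ++ lw)).flatten,
        (List.replicate 2 ([2] ++ lw' ++ [1] ++ lw' ++ [2] ++ lw' ++ [1] ++ lw)).flatten] := by
  decide +kernel

theorem w2_words : ((List.range 12).map fun k => wDecode (fld Lev2.dat.words 512 k)) = lrel ++ [[1], lw] ∧
    ((List.range 6).map fun k => wDecode (fld Lev2.dat.words 512 (12 + k))) = [[1], [2], lw, lw', lcList, lc'] := by
  decide +kernel

theorem w3_words : ((List.range 13).map fun k => wDecode (fld Lev3.dat.words 512 k)) = lrel ++ [[1], lw, lcList] ∧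
    ((List.range 3).map fun k => wDecode (fld Lev3.dat.words 512 (13 + k))) = [[0], [1], [2]] := by
  decide +kernel

theorem w4_words : ((List.range 9).map fun k => wDecode (fld Lev4.dat.words 512 k)) =
      [[0, 0, 0], [2, 2, 2], (List.replicate 5 [1, 2]).flatten,
        [1, 3, 0, 3, 1, 3, 0, 2, 1, 3, 0, 3, 1, 3, 0, 2], [0, 1], [1, 0], [2, 3], [3, 2], [1, 2]] ∧
    ((List.range 4).map fun k => wDecode (fld Lev4.dat.words 512 (9 + k))) = [[0], [1], [2], [3]] := by
  decide +kernel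

theorem getD_map_range {α : Type*} (n : ℕ) (f : ℕ → α) (L : List α) (h : (List.range n).map f = L) (k : ℕ)
    (hk : k < n) : f k ∈ L := h ▸ List.mem_map.2 ⟨k, List.mem_range.2 hk, rfl⟩

theorem moves_mem {D : Data} (g : ℕ → G) {L : List (List ℕ)}
    (h : ((List.range D.ne).map fun k => wDecode (fld D.words 512 (D.nw + k))) = L) {l : List ℕ} (hl : l ∈ L) :
    wordEval g l ∈ moves D g := by
  rw [← h, List.mem_map] at hl
  obtain ⟨k, hk, rfl⟩ := hl
  exact ⟨k, List.mem_range.1 hk, rfl⟩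

theorem wd_lw' (h : Rels x y) : wordEval (gl x y) lw' = (wordEval (gl x y) lw)⁻¹ := by
  simp [wordEval, lw, lw', gl, h.x_inv, mul_assoc]

theorem wd_lc' (h : Rels x y) : wordEval (gl x y) lc' = (wordEval (gl x y) lcList)⁻¹ := by
  simp [wordEval, lcList, lc', gl, h.x_inv, mul_assoc]

/-- the element w -/
def ww (x y : G) : G := wordEval (gl x y) lw
/-- the element c -/
def cc (x y : G) : G := wordEval (gl x y) lcList

theorem level1 (h : Rels x y) :
    y ^ 3 = 1 ∧ ww x y ^ 3 = 1 ∧ (y⁻¹ * ww x y) ^ 5 = 1 ∧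
      (y⁻¹ * (ww x y)⁻¹ * y * (ww x y)⁻¹ * y⁻¹ * (ww x y)⁻¹ * y * ww x y) ^ 2 = 1 := by
  obtain ⟨hr, hm⟩ := w1_words
  have hrel : ∀ k, k < Lev1.dat.nw →
      (k < Lev1.dat.nr → ((wDecode (fld Lev1.dat.words 512 k)).map (gl x y)).prod = 1) ∧
      ((wDecode (fld Lev1.dat.words 512 k)).map (gl x y)).prod ∈ (⊥ : Subgroup G) := fun k hk => by
    have h1 := h.wd_one _ (getD_map_range 10 _ _ hr k hk)
    exact ⟨fun _ => h1, h1⟩
  obtain ⟨v, h0, hv⟩ := closed Lev1.checked (gl x y) ⊥ h.iv_ok rfl hrel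
  have one : ∀ l ∈ [[1, 1, 1], lw ++ lw ++ lw, (List.replicate 5 ([2] ++ lw)).flatten,
      (List.replicate 2 ([2] ++ lw' ++ [1] ++ lw' ++ [2] ++ lw' ++ [1] ++ lw)).flatten],
      wordEval (gl x y) l = 1 := by
    intro l hl
    obtain ⟨c, hc, hr'⟩ := hv _ (moves_mem (D := Lev1.dat) (gl x y) hm hl) 0 Lev1.checked.pos
    have hc0 : c = 0 := Nat.lt_one_iff.1 hc
    subst hc0
    rw [Lev1.checked.rep0, h0, Rel, one_mul, inv_one, mul_one, Subgroup.mem_bot] at hr'
    exact hr'
  refine ⟨h.y3, ?_, ?_, ?_⟩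
  · rw [← one _ (List.mem_cons_of_mem _ List.mem_cons_self), wd_app, wd_app, ww, pow_succ, pow_two]
  · rw [← one _ (List.mem_cons_of_mem _ (List.mem_cons_of_mem _ List.mem_cons_self)), wd_rep, wd_app, ww]
    simp [wordEval, gl]
  · rw [← one _ (List.mem_cons_of_mem _ (List.mem_cons_of_mem _ (List.mem_cons_of_mem _ List.mem_cons_self))),
      wd_rep]
    simp only [wd_app, wd_lw' h]
    simp [wordEval, gl, ww, mul_assoc]

theorem level4 {a b : G} (ha : a ^ 3 = 1) (hb : b ^ 3 = 1) (hab : (a⁻¹ * b) ^ 5 = 1)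
    (hr : (a⁻¹ * b⁻¹ * a * b⁻¹ * a⁻¹ * b⁻¹ * a * b) ^ 2 = 1) :
    Finite (Subgroup.closure ({a, b} : Set G)) ∧ Nat.card (Subgroup.closure ({a, b} : Set G)) ≤ 3456 * 5 := by
  obtain ⟨hw, hm⟩ := w4_words
  have ho : orderOf (a⁻¹ * b) ≤ 5 := orderOf_le_of_pow_eq_one (by norm_num) hab
  haveI : Finite (Subgroup.zpowers (a⁻¹ * b)) :=
    Nat.finite_of_card_ne_zero (by
      rw [Nat.card_zpowers]
      exact (orderOf_pos_iff.2 (isOfFinOrder_iff_pow_eq_one.2 ⟨5, by norm_num, hab⟩)).ne')
  have hiv : ∀ k, k < 16 → gk a b (ivL Lev4.dat.iw k) = (gk a b k)⁻¹ := by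
    have e : (List.range 16).map (ivL Lev4.dat.iw) = [1, 0, 3, 2, 4, 5, 6, 7, 8, 9, 10, 11, 12, 13, 14, 15] := by
      decide +kernel
    intro k hk
    have e' : ivL Lev4.dat.iw k = [1, 0, 3, 2, 4, 5, 6, 7, 8, 9, 10, 11, 12, 13, 14, 15].getD k 0 := by
      rw [← e]; simp [hk]
    rw [e']
    interval_cases k <;> simp [gk]
  refine (fun H => ⟨H.1, H.2.trans ?fin⟩) (card_le Lev4.checked (gk a b) (Subgroup.zpowers (a⁻¹ * b)) hiv rfl
    (fun k hk => ?rel) (Subgroup.closure ({a, b} : Set G)) {a, b} rfl (fun z hz => ?mv))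
  case fin =>
    rw [Nat.card_zpowers]
    exact Nat.mul_le_mul_left _ ho
  case rel =>
    have hmem := getD_map_range 9 _ _ hw k hk
    have one : ∀ l ∈ [[0, 0, 0], [2, 2, 2], (List.replicate 5 [1, 2]).flatten,
        [1, 3, 0, 3, 1, 3, 0, 2, 1, 3, 0, 3, 1, 3, 0, 2], [0, 1], [1, 0], [2, 3], [3, 2]], wordEval (gk a b) l = 1 := by
      intro l hl
      simp only [List.mem_cons, List.not_mem_nil, or_false] at hl
      rcases hl with rfl | rfl | rfl | rfl | rfl | rfl | rfl | rfl
      · rw [← ha]; simp [wordEval, gk, pow_succ, mul_assoc]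
      · rw [← hb]; simp [wordEval, gk, pow_succ, mul_assoc]
      · rw [wd_rep, ← hab]; simp [wordEval, gk]
      · rw [← hr]; simp [wordEval, gk, pow_two, mul_assoc]
      all_goals simp [wordEval, gk]
    refine ⟨fun hk' => one _ ?_, ?_⟩
    · have e : ((List.range 8).map fun k => wDecode (fld Lev4.dat.words 512 k)) = [[0, 0, 0], [2, 2, 2],
        (List.replicate 5 [1, 2]).flatten, [1, 3, 0, 3, 1, 3, 0, 2, 1, 3, 0, 3, 1, 3, 0, 2], [0, 1], [1, 0], [2, 3],
        [3, 2]] := by decide +kernel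
      exact getD_map_range 8 _ _ e k hk'
    · show wordEval (gk a b) _ ∈ _
      generalize wDecode (fld Lev4.dat.words 512 k) = l at hmem
      simp only [List.mem_cons, List.not_mem_nil, or_false] at hmem
      rcases hmem with e | e | e | e | e | e | e | e | e
      iterate 8 (rw [one l (by simp [e])]; exact one_mem _)
      subst e
      simp [wordEval, gk]
  case mv =>
    rcases hz with rfl | rfl
    · exact ⟨by simpa [wordEval, gk] using moves_mem (D := Lev4.dat) (gk z b) hm (l := [0]) (by simp),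
        by simpa [wordEval, gk] using moves_mem (D := Lev4.dat) (gk z b) hm (l := [1]) (by simp)⟩
    · exact ⟨by simpa [wordEval, gk] using moves_mem (D := Lev4.dat) (gk a z) hm (l := [2]) (by simp),
        by simpa [wordEval, gk] using moves_mem (D := Lev4.dat) (gk a z) hm (l := [3]) (by simp)⟩

/-- the order bound -/
theorem card_xy_le (h : Rels x y) :
    Finite (Subgroup.closure ({x, y} : Set G)) ∧ Nat.card (Subgroup.closure ({x, y} : Set G)) ≤ 3 * 244823040 := by
  obtain ⟨k1, k2, k3, k4⟩ := level1 h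
  obtain ⟨f4, c4⟩ := level4 k1 k2 k3 k4
  haveI := f4
  obtain ⟨hw2, hm2⟩ := w2_words
  obtain ⟨hw3, hm3⟩ := w3_words
  refine (fun H2 => ?main2) (card_le Lev2.checked (gl x y) (Subgroup.closure ({y, ww x y} : Set G)) h.iv_ok rfl
    (fun k hk => ?rel2) (Subgroup.closure ({y, ww x y, cc x y} : Set G)) {y, ww x y, cc x y} rfl (fun z hz => ?mv2))
  case main2 =>
    obtain ⟨f2, c2⟩ := H2
    haveI := f2
    refine (fun H3 => ?main3) (card_le Lev3.checked (gl x y) (Subgroup.closure ({y, ww x y, cc x y} : Set G)) h.iv_ok rfl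
      (fun k hk => ?rel3) (Subgroup.closure ({x, y} : Set G)) {x, y} rfl (fun z hz => ?mv3))
    case main3 =>
      obtain ⟨f3, c3⟩ := H3
      refine ⟨f3, c3.trans ?_⟩
      calc Lev3.dat.nn * Nat.card (Subgroup.closure ({y, ww x y, cc x y} : Set G))
          ≤ Lev3.dat.nn * (Lev2.dat.nn * (3456 * 5)) := by
            refine Nat.mul_le_mul_left _ (c2.trans ?_)
            exact Nat.mul_le_mul_left _ c4
        _ ≤ _ := by decide +kernel
    case rel3 =>
      have hmem := getD_map_range 13 _ _ hw3 k hk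
      refine ⟨fun hk' => h.wd_one _ ?_, ?_⟩
      · have e : ((List.range 10).map fun k => wDecode (fld Lev3.dat.words 512 k)) = lrel := by decide +kernel
        exact getD_map_range 10 _ _ e k hk'
      · show wordEval (gl x y) _ ∈ _
        rcases List.mem_append.1 hmem with e | e
        · rw [h.wd_one _ e]; exact one_mem _
        · simp only [List.mem_cons, List.not_mem_nil, or_false] at e
          rcases e with e | e | e <;> rw [e]
          · exact Subgroup.subset_closure (by simp [wordEval, gl])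
          · exact Subgroup.subset_closure (by simp [ww])
          · exact Subgroup.subset_closure (by simp [cc])
    case mv3 =>
      rcases hz with rfl | rfl
      · exact ⟨by simpa [wordEval, gl] using moves_mem (D := Lev3.dat) (gl z y) hm3 (l := [0]) (by simp),
          by rw [h.x_inv]; simpa [wordEval, gl] using moves_mem (D := Lev3.dat) (gl z y) hm3 (l := [0]) (by simp)⟩
      · exact ⟨by simpa [wordEval, gl] using moves_mem (D := Lev3.dat) (gl x z) hm3 (l := [1]) (by simp),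
          by simpa [wordEval, gl] using moves_mem (D := Lev3.dat) (gl x z) hm3 (l := [2]) (by simp)⟩
  case rel2 =>
    have hmem := getD_map_range 12 _ _ hw2 k hk
    refine ⟨fun hk' => h.wd_one _ ?_, ?_⟩
    · have e : ((List.range 10).map fun k => wDecode (fld Lev2.dat.words 512 k)) = lrel := by decide +kernel
      exact getD_map_range 10 _ _ e k hk'
    · show wordEval (gl x y) _ ∈ _
      rcases List.mem_append.1 hmem with e | e
      · rw [h.wd_one _ e]; exact one_mem _
      · simp only [List.mem_cons, List.not_mem_nil, or_false] at e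
        rcases e with e | e <;> rw [e]
        · exact Subgroup.subset_closure (by simp [wordEval, gl])
        · exact Subgroup.subset_closure (by simp [ww])
  case mv2 =>
    rcases hz with rfl | rfl | rfl
    · exact ⟨by simpa [wordEval, gl] using moves_mem (D := Lev2.dat) (gl x z) hm2 (l := [1]) (by simp),
        by simpa [wordEval, gl] using moves_mem (D := Lev2.dat) (gl x z) hm2 (l := [2]) (by simp)⟩
    · exact ⟨moves_mem (D := Lev2.dat) (gl x y) hm2 (l := lw) (by simp),
        by rw [ww, ← wd_lw' h]; exact moves_mem (D := Lev2.dat) (gl x y) hm2 (l := lw') (by simp)⟩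
    · exact ⟨moves_mem (D := Lev2.dat) (gl x y) hm2 (l := lcList) (by simp),
        by rw [cc, ← wd_lc' h]; exact moves_mem (D := Lev2.dat) (gl x y) hm2 (l := lc') (by simp)⟩

end Cfsg.Agent.Spor.JFour
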