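import Mathlib.Algebra.Group.Subgroup.Lattice
import Mathlib.Algebra.BigOperators.Group.List.Lemmas
import Mathlib.SetTheory.Cardinal.Finite
import Mathlib.Data.Set.Card
import Mathlib.Tactic.Group
import Mathlib.Algebra.Group.Subgroup.Pointwise
import Mathlib.Data.Finite.Card
import Mathlib.Data.Set.Finite.Range

/-!
Checker for coset enumeration certificates over generators of any order. A certificate is a numbered
sequence of coset equalities, each obtained by tracing a relator or subgroup word through earlier ones;
the conclusions are equalities of cosets along given words.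
-/

set_option autoImplicit false

namespace Cfsg.Agent.Spor.PC

/-- binary tree of chunks -/
inductive Tr
  /-- a chunk -/
  | leaf (n : ℕ)
  /-- branching -/
  | node (l r : Tr)

/-- chunk number `i` of a tree of depth `d` -/
def Tr.get : Tr → ℕ → ℕ → ℕ
  | .leaf n, _, _ => n
  | .node l r, d, i =>
    bif Nat.beq (Nat.land (Nat.shiftRight i (Nat.sub d 1)) 1) 0 then l.get (Nat.sub d 1) i
    else r.get (Nat.sub d 1) i

/-! ### packed data -/

/-- the `i`-th field of width `w` -/
def fld (v w i : ℕ) : ℕ := Nat.land (Nat.shiftRight v (Nat.mul w i)) (Nat.sub (Nat.pow 2 w) 1)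

/-- table lookup: chunks of 128 fields -/
def look (t : Tr) (d w i : ℕ) : ℕ := fld (t.get d (Nat.shiftRight i 7)) w (Nat.land i 127)

/-- source of a packed equality -/
def fU (f : ℕ) : ℕ := Nat.land f 262143
/-- target of a packed equality -/
def fV (f : ℕ) : ℕ := Nat.land (Nat.shiftRight f 18) 262143
/-- letter of a packed equality (15 for none) -/
def fX (f : ℕ) : ℕ := Nat.land (Nat.shiftRight f 36) 15

/-- length of a packed word -/
def wLen (w : ℕ) : ℕ := Nat.land w 255
/-- letter of a packed word -/
def wLet (w i : ℕ) : ℕ := Nat.land (Nat.shiftRight w (Nat.add 8 (Nat.mul 4 i))) 15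

/-- the letters of a packed word -/
def wDecode (w : ℕ) : List ℕ := (List.range (wLen w)).map (wLet w)

/-- the inverse of a letter -/
def ivL (iw x : ℕ) : ℕ := fld iw 4 x

/-- the letter read at step `i` -/
def rdLet (iw : ℕ) (rv : Bool) (w i : ℕ) : ℕ :=
  bif rv then ivL iw (wLet w (Nat.sub (Nat.sub (wLen w) 1) i)) else wLet w i

/-- one move along a recorded equality -/
def mvFrom (d f : ℕ) : ℕ := bif Nat.beq d 0 then fU f else fV f
/-- end of a move along a recorded equality -/
def mvTo (d f : ℕ) : ℕ := bif Nat.beq d 0 then fV f else fU f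
/-- letter of a move along a recorded equality -/
def mvLet (iw d f : ℕ) : ℕ := bif Nat.beq d 0 then fX f else ivL iw (fX f)

/-- follow a list of recorded equalities, reading a word; 0 means failure -/
noncomputable def walk (F : ℕ → ℕ) (iw w lim : ℕ) (rv : Bool) (fuel : ℕ) : ℕ → ℕ → ℕ → ℕ :=
  Nat.rec (motive := fun _ => ℕ → ℕ → ℕ → ℕ) (fun _ cur i => Nat.add (Nat.add (Nat.mul cur 256) i) 1)
    (fun _ ih ids cur i =>
      bif Nat.ble lim (Nat.land (Nat.shiftRight ids 1) 1048575) then 0 else
      bif Nat.beq (mvFrom (Nat.land ids 1) (F (Nat.land (Nat.shiftRight ids 1) 1048575))) cur then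
        bif Nat.beq (fX (F (Nat.land (Nat.shiftRight ids 1) 1048575))) 15 then
          ih (Nat.shiftRight ids 21) (mvTo (Nat.land ids 1) (F (Nat.land (Nat.shiftRight ids 1) 1048575))) i
        else bif Nat.blt i (wLen w) &&
            Nat.beq (mvLet iw (Nat.land ids 1) (F (Nat.land (Nat.shiftRight ids 1) 1048575)))
              (rdLet iw rv w i) then
          ih (Nat.shiftRight ids 21) (mvTo (Nat.land ids 1) (F (Nat.land (Nat.shiftRight ids 1) 1048575)))
            (Nat.add i 1)
        else 0
      else 0) fuel

/-- the node reached -/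
def rNode (r : ℕ) : ℕ := Nat.div (Nat.sub r 1) 256
/-- the number of letters read -/
def rPos (r : ℕ) : ℕ := Nat.mod (Nat.sub r 1) 256

/-- does the gap between two walks give the equality `f`? -/
def gapOK (f w r1 r2 : ℕ) : Bool :=
  Nat.blt 0 r1 && Nat.blt 0 r2 && Nat.beq (fU f) (rNode r1) && Nat.beq (fV f) (rNode r2) &&
    (bif Nat.beq (fX f) 15 then Nat.beq (Nat.add (rPos r1) (rPos r2)) (wLen w)
     else Nat.beq (Nat.add (Nat.add (rPos r1) (rPos r2)) 1) (wLen w) &&
       Nat.beq (fX f) (wLet w (rPos r1)))

/-- data shared by the steps -/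
structure Data where
  /-- number of nodes -/
  na : ℕ
  /-- number of cosets kept -/
  nn : ℕ
  /-- the nodes kept -/
  reps : ℕ → ℕ
  /-- the recorded equalities -/
  facts : ℕ → ℕ
  /-- inverses of the letters -/
  iw : ℕ
  /-- packed words: relators, subgroup words, words along which the cosets are moved -/
  words : ℕ
  /-- number of relator words -/
  nr : ℕ
  /-- number of relator and subgroup words -/
  nw : ℕ
  /-- number of words along which the cosets are moved -/
  ne : ℕ

/-- the word used in a step -/
def stWord (D : Data) (s : ℕ) : ℕ := fld D.words 512 (Nat.land (Nat.shiftRight s 18) 16383)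

/-- check that equality number `id` follows from earlier ones -/
noncomputable def stepOK (D : Data) (id s : ℕ) : Bool :=
  Nat.blt (Nat.land (Nat.shiftRight s 18) 16383) D.nw &&
  (Nat.blt (Nat.land (Nat.shiftRight s 18) 16383) D.nr || Nat.beq (Nat.land s 262143) 0) &&
  gapOK (D.facts id) (stWord D s)
    (walk D.facts D.iw (stWord D s) id false (Nat.land (Nat.shiftRight s 32) 1023)
      (Nat.shiftRight s 52) (Nat.land s 262143) 0)
    (walk D.facts D.iw (stWord D s) id true (Nat.land (Nat.shiftRight s 42) 1023)
      (Nat.shiftRight s (Nat.add 52 (Nat.mul 21 (Nat.land (Nat.shiftRight s 32) 1023))))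
      (Nat.land s 262143) 0)

/-- check consecutive steps -/
noncomputable def stepsOK (D : Data) (l : List ℕ) : ℕ → Bool :=
  List.rec (motive := fun _ => ℕ → Bool) (fun _ => true)
    (fun s _ ih id => stepOK D id s && ih (Nat.add id 1)) l

/-- check one defining equality -/
def defOK (D : Data) (k : ℕ) : Bool :=
  Nat.ble (fU (D.facts k)) k && Nat.beq (fV (D.facts k)) (Nat.add k 1)

/-- check consecutive defining equalities -/
noncomputable def defsOK (D : Data) (n : ℕ) : Bool :=
  Nat.rec (motive := fun _ => Bool) true (fun k ih => defOK D k && ih) n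

/-- the word of a table entry -/
def edWord (D : Data) (k : ℕ) : ℕ := fld D.words 512 (Nat.add D.nw (Nat.mod k D.ne))

/-- check one table entry -/
noncomputable def edgeOK (D : Data) (m k s : ℕ) : Bool :=
  (fun r => Nat.blt 0 r && Nat.beq (rPos r) (wLen (edWord D k)) &&
      Nat.blt (Nat.land s 1048575) D.nn && Nat.beq (rNode r) (D.reps (Nat.land s 1048575)))
    (walk D.facts D.iw (edWord D k) m false (Nat.land (Nat.shiftRight s 20) 1023)
      (Nat.shiftRight s 30) (D.reps (Nat.div k D.ne)) 0)

/-- check consecutive table entries -/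
noncomputable def edgesOK (D : Data) (m : ℕ) (l : List ℕ) : ℕ → Bool :=
  List.rec (motive := fun _ => ℕ → Bool) (fun _ => true)
    (fun s _ ih k => edgeOK D m k s && ih (Nat.add k 1)) l

/-! ### meaning -/

variable {G : Type*} [Group G]

/-- the same right coset -/
def Rel (H : Subgroup G) (p q : G) : Prop := p * q⁻¹ ∈ H

theorem Rel.refl {H : Subgroup G} (p : G) : Rel H p p := by
  rw [Rel, mul_inv_cancel]; exact one_mem H

theorem Rel.symm {H : Subgroup G} {p q : G} (h : Rel H p q) : Rel H q p := by
  have := inv_mem h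
  rw [mul_inv_rev, inv_inv] at this
  exact this

theorem Rel.trans {H : Subgroup G} {p q r : G} (h : Rel H p q) (h' : Rel H q r) : Rel H p r := by
  have := mul_mem h h'
  rw [mul_assoc, inv_mul_cancel_left] at this
  exact this

theorem Rel.mul {H : Subgroup G} {p q : G} (h : Rel H p q) (z : G) : Rel H (p * z) (q * z) := by
  have : p * z * (q * z)⁻¹ = p * q⁻¹ := by group
  rw [Rel, this]; exact h

/-- product of the first letters -/
def pre (g : ℕ → G) (w : ℕ) : ℕ → G
  | 0 => 1
  | i + 1 => pre g w i * g (wLet w i)

/-- product of the inverses of the last letters -/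
def suf (g : ℕ → G) (w : ℕ) : ℕ → G
  | 0 => 1
  | i + 1 => suf g w i * (g (wLet w (wLen w - 1 - i)))⁻¹

/-- product along a reading direction -/
def rd (g : ℕ → G) (w : ℕ) : Bool → ℕ → G
  | false => pre g w
  | true => suf g w

theorem pre_eq_prod (g : ℕ → G) (w : ℕ) : ∀ i, pre g w i = (((List.range i).map (wLet w)).map g).prod
  | 0 => rfl
  | i + 1 => by simp [pre, pre_eq_prod g w i, List.range_succ]

theorem pre_len (g : ℕ → G) (w : ℕ) : pre g w (wLen w) = ((wDecode w).map g).prod :=
  pre_eq_prod g w _

theorem pre_mul_suf (g : ℕ → G) (w : ℕ) :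
    ∀ j i, i + j = wLen w → pre g w i * (suf g w j)⁻¹ = pre g w (wLen w)
  | 0, i, h => by simp [suf, show i = wLen w by omega]
  | j + 1, i, h => by
    rw [← pre_mul_suf g w j (i + 1) (by omega)]
    have e : wLen w - 1 - j = i := by omega
    simp only [suf, pre, e, mul_inv_rev, inv_inv, mul_assoc]

/-- equality number `k` holds -/
def Holds (D : Data) (g : ℕ → G) (H : Subgroup G) (v : ℕ → G) (k : ℕ) : Prop :=
  Rel H (v (fU (D.facts k)) * g (fX (D.facts k))) (v (fV (D.facts k)))

theorem fX_lt (f : ℕ) : fX f < 16 := Nat.lt_succ_of_le Nat.and_le_right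

theorem wLet_lt (w i : ℕ) : wLet w i < 16 := Nat.lt_succ_of_le Nat.and_le_right

theorem walk_sound {D : Data} {g : ℕ → G} {H : Subgroup G} {v : ℕ → G}
    (hiv : ∀ x, x < 16 → g (ivL D.iw x) = (g x)⁻¹) (h15 : g 15 = 1) {w lim : ℕ}
    (hl : ∀ k, k < lim → Holds D g H v k) (rv : Bool) (a : ℕ) :
    ∀ fuel ids cur i r, walk D.facts D.iw w lim rv fuel ids cur i = r → r ≠ 0 → i ≤ wLen w →
      Rel H (v a * rd g w rv i) (v cur) →
      Rel H (v a * rd g w rv (rPos r)) (v (rNode r)) := by
  have hL : wLen w < 256 := Nat.lt_succ_of_le Nat.and_le_right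
  intro fuel
  induction fuel with
  | zero =>
    intro ids cur i r hr _ hi h
    simp only [walk, Nat.rec, Nat.add_eq, Nat.mul_eq] at hr
    have hr' : cur * 256 + i + 1 = r := hr
    subst hr'
    clear hr
    have e1 : rNode (cur * 256 + i + 1) = cur := by
      show (cur * 256 + i + 1 - 1) / 256 = cur; omega
    have e2 : rPos (cur * 256 + i + 1) = i := by
      show (cur * 256 + i + 1 - 1) % 256 = i; omega
    rw [e1, e2]; exact h
  | succ fuel ih =>
    intro ids cur i r hr hr0 hi h
    simp only [walk] at hr
    generalize hid : Nat.land (Nat.shiftRight ids 1) 1048575 = id at hr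
    generalize hd : Nat.land ids 1 = d at hr
    cases hlim : Nat.ble lim id with
    | true => simp [hlim] at hr; exact absurd hr.symm hr0
    | false =>
      simp only [hlim, cond_false] at hr
      have hid' : id < lim := by
        by_contra hc
        rw [Nat.ble_eq_true_of_le (by omega : lim ≤ id)] at hlim
        cases hlim
      have hf := hl id hid'
      unfold Holds at hf
      generalize D.facts id = f at hr hf
      cases hc : Nat.beq (mvFrom d f) cur with
      | false => simp [hc] at hr; exact absurd hr.symm hr0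
      | true =>
        simp only [hc, cond_true] at hr
        have hcur : mvFrom d f = cur := Nat.eq_of_beq_eq_true hc
        have hstep : Rel H (v cur * g (mvLet D.iw d f)) (v (mvTo d f)) := by
          subst hcur
          unfold mvFrom mvTo mvLet
          cases hd0 : Nat.beq d 0 with
          | true => exact hf
          | false =>
            simp only [cond_false]
            have := (hf.symm).mul (g (fX f))⁻¹
            rw [mul_inv_cancel_right] at this
            rw [hiv _ (fX_lt f)]
            exact this
        cases hx : Nat.beq (fX f) 15 with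
        | true =>
          simp only [hx, cond_true] at hr
          refine ih _ _ _ r hr hr0 hi ?_
          have h1 : g (mvLet D.iw d f) = 1 := by
            unfold mvLet
            cases Nat.beq d 0 with
            | true => simp [Nat.eq_of_beq_eq_true hx, h15]
            | false => simp [Nat.eq_of_beq_eq_true hx, hiv 15 (by omega), h15]
          rw [h1, mul_one] at hstep
          exact h.trans hstep
        | false =>
          simp only [hx, cond_false] at hr
          cases hb : (Nat.blt i (wLen w) && Nat.beq (mvLet D.iw d f) (rdLet D.iw rv w i)) with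
          | false => simp [hb] at hr; exact absurd hr.symm hr0
          | true =>
            simp only [hb, cond_true] at hr
            obtain ⟨hb1, hb2⟩ := Bool.and_eq_true_iff.mp hb
            have hi' : i < wLen w := Nat.le_of_ble_eq_true hb1
            have hxe : mvLet D.iw d f = rdLet D.iw rv w i := Nat.eq_of_beq_eq_true hb2
            refine ih _ _ _ r hr hr0 hi' ?_
            have := (h.mul (g (mvLet D.iw d f))).trans hstep
            rw [hxe] at this
            cases rv with
            | false => simpa [rd, pre, rdLet, mul_assoc] using this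
            | true =>
              have e : g (rdLet D.iw true w i) = (g (wLet w (wLen w - 1 - i)))⁻¹ := hiv _ (wLet_lt _ _)
              simpa [rd, suf, e, mul_assoc] using this

theorem stepsOK_spec {D : Data} : ∀ (l : List ℕ) (st : ℕ), stepsOK D l st = true →
    ∀ id, st ≤ id → id < st + l.length → ∃ s, stepOK D id s = true
  | [], st, _, id, h1, h2 => by simp at h2; omega
  | s :: l, st, h, id, h1, h2 => by
    have h' : stepOK D st s = true ∧ stepsOK D l (st + 1) = true := Bool.and_eq_true_iff.mp h
    rcases Nat.eq_or_lt_of_le h1 with rfl | hlt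
    · exact ⟨s, h'.1⟩
    · exact stepsOK_spec l (st + 1) h'.2 id hlt (by simp at h2; omega)

theorem edgesOK_spec {D : Data} {m : ℕ} : ∀ (l : List ℕ) (st : ℕ), edgesOK D m l st = true →
    ∀ k, st ≤ k → k < st + l.length → ∃ s, edgeOK D m k s = true
  | [], st, _, k, h1, h2 => by simp at h2; omega
  | s :: l, st, h, k, h1, h2 => by
    have h' : edgeOK D m st s = true ∧ edgesOK D m l (st + 1) = true := Bool.and_eq_true_iff.mp h
    rcases Nat.eq_or_lt_of_le h1 with rfl | hlt
    · exact ⟨s, h'.1⟩
    · exact edgesOK_spec l (st + 1) h'.2 k hlt (by simp at h2; omega)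

theorem defsOK_spec {D : Data} : ∀ n, defsOK D n = true → ∀ k, k < n → defOK D k = true
  | 0, _, k, hk => absurd hk (Nat.not_lt_zero k)
  | n + 1, h, k, hk => by
    have h' : defOK D n = true ∧ defsOK D n = true := Bool.and_eq_true_iff.mp h
    rcases Nat.lt_succ_iff_lt_or_eq.1 hk with hlt | rfl
    · exact defsOK_spec n h'.2 k hlt
    · exact h'.1

/-- everything a certificate has to pass -/
structure Checked (D : Data) (m : ℕ) : Prop where
  defs : ∀ k, k < D.na - 1 → defOK D k = true
  steps : ∀ id, D.na - 1 ≤ id → id < m → ∃ s, stepOK D id s = true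
  edges : ∀ k, k < D.nn * D.ne → ∃ s, edgeOK D m k s = true
  pos : 0 < D.nn
  rep0 : D.reps 0 = 0

theorem exists_val (D : Data) (g : ℕ → G) (hd : ∀ k, k < D.na - 1 → defOK D k = true) :
    ∀ N, N ≤ D.na - 1 → ∃ v : ℕ → G, v 0 = 1 ∧ ∀ k, k < N →
      v (k + 1) = v (fU (D.facts k)) * g (fX (D.facts k))
  | 0, _ => ⟨fun _ => 1, rfl, fun k hk => absurd hk (Nat.not_lt_zero k)⟩
  | N + 1, hN => by
    obtain ⟨v, h0, hv⟩ := exists_val D g hd N (by omega)
    classical
    refine ⟨Function.update v (N + 1) (v (fU (D.facts N)) * g (fX (D.facts N))), ?_, ?_⟩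
    · rw [Function.update_of_ne (by omega)]; exact h0
    · intro k hk
      have hle : ∀ k, k < D.na - 1 → fU (D.facts k) ≤ k := by
        intro k hk
        have := hd k hk
        simp only [defOK, Bool.and_eq_true] at this
        exact Nat.le_of_ble_eq_true this.1
      rw [Function.update_of_ne (a := fU (D.facts k)) (by have := hle k (by omega); omega)]
      rcases Nat.eq_or_lt_of_le (Nat.le_of_lt_succ hk) with rfl | hlt
      · rw [Function.update_self]
      · rw [Function.update_of_ne (by omega)]; exact hv k hlt

/-- the moving words -/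
def moves (D : Data) (g : ℕ → G) : Set G :=
  (fun e => ((wDecode (fld D.words 512 (D.nw + e))).map g).prod) '' {e | e < D.ne}

/-- the cosets kept are permuted by the moving words -/
theorem closed {D : Data} {m : ℕ} (hc : Checked D m) (g : ℕ → G) (H : Subgroup G)
    (hiv : ∀ x, x < 16 → g (ivL D.iw x) = (g x)⁻¹) (h15 : g 15 = 1)
    (hrel : ∀ k, k < D.nw →
      (k < D.nr → ((wDecode (fld D.words 512 k)).map g).prod = 1) ∧
      ((wDecode (fld D.words 512 k)).map g).prod ∈ H) :
    ∃ v : ℕ → G, v 0 = 1 ∧ ∀ z ∈ moves D g, ∀ u, u < D.nn →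
      ∃ c, c < D.nn ∧ Rel H (v (D.reps u) * z) (v (D.reps c)) := by
  obtain ⟨v, h0, hv⟩ := exists_val D g hc.defs _ le_rfl
  refine ⟨v, h0, ?_⟩
  have hall : ∀ k, k < m → Holds D g H v k := by
    intro k
    induction k using Nat.strong_induction_on with
    | _ k ih =>
      intro hk
      by_cases hkd : k < D.na - 1
      · have hd := hc.defs k hkd
        simp only [defOK, Bool.and_eq_true] at hd
        unfold Holds
        rw [Nat.eq_of_beq_eq_true hd.2]
        show Rel H _ (v (k + 1))
        rw [hv k hkd]
        exact Rel.refl _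
      · obtain ⟨s, hs⟩ := hc.steps k (by omega) hk
        simp only [stepOK, stWord] at hs
        generalize hW : Nat.land (Nat.shiftRight s 18) 16383 = wi at hs
        generalize ha : Nat.land s 262143 = a at hs
        simp only [Bool.and_eq_true, Bool.or_eq_true] at hs
        obtain ⟨⟨hw, hor⟩, hgap⟩ := hs
        obtain ⟨hone, hmem⟩ := hrel wi (Nat.le_of_ble_eq_true hw)
        generalize fld D.words 512 wi = w at hgap hone hmem
        simp only [gapOK, Bool.and_eq_true] at hgap
        obtain ⟨⟨⟨⟨h1, h2⟩, hu⟩, hv'⟩, hgap⟩ := hgap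
        have hl : ∀ j, j < k → Holds D g H v j := fun j hj => ih j hj (by omega)
        have hne : ∀ r : ℕ, Nat.blt 0 r = true → r ≠ 0 := by
          intro r hr
          have := Nat.le_of_ble_eq_true hr
          omega
        have R1 := walk_sound hiv h15 hl false a _ _ a 0 _ rfl (hne _ h1) (Nat.zero_le _)
          (by simpa [rd, pre] using Rel.refl (H := H) (v a))
        have R2 := walk_sound hiv h15 hl true a _ _ a 0 _ rfl (hne _ h2) (Nat.zero_le _)
          (by simpa [rd, suf] using Rel.refl (H := H) (v a))
        generalize walk D.facts D.iw w k false _ _ a 0 = r1 at R1 hu hgap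
        generalize walk D.facts D.iw w k true _ _ a 0 = r2 at R2 hv' hgap
        simp only [rd] at R1 R2
        have hloop : Rel H (v a * pre g w (wLen w)) (v a) := by
          rw [pre_len]
          rcases hor with hr | hz
          · rw [hone (Nat.le_of_ble_eq_true hr), mul_one]; exact Rel.refl _
          · rw [Nat.eq_of_beq_eq_true hz, h0, one_mul, Rel, inv_one, mul_one]; exact hmem
        unfold Holds
        rw [Nat.eq_of_beq_eq_true hu, Nat.eq_of_beq_eq_true hv']
        generalize fX (D.facts k) = x at hgap
        cases hx : Nat.beq x 15 with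
        | true =>
          simp only [hx, cond_true] at hgap
          rw [Nat.eq_of_beq_eq_true hx, h15, mul_one]
          have := hloop.mul (suf g w (rPos r2))
          rw [← pre_mul_suf g w _ (rPos r1) (Nat.eq_of_beq_eq_true hgap), mul_assoc, mul_assoc,
            inv_mul_cancel, mul_one] at this
          exact (R1.symm.trans this).trans R2
        | false =>
          simp only [hx, cond_false, Bool.and_eq_true] at hgap
          obtain ⟨hlen, hxe⟩ := hgap
          rw [Nat.eq_of_beq_eq_true hxe]
          have hlen' : rPos r1 + 1 + rPos r2 = wLen w := by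
            have := Nat.eq_of_beq_eq_true hlen
            simp only [Nat.add_eq] at this
            omega
          have := hloop.mul (suf g w (rPos r2))
          rw [← pre_mul_suf g w _ _ hlen', mul_assoc, mul_assoc, inv_mul_cancel, mul_one, pre,
            ← mul_assoc] at this
          exact ((R1.mul _).symm.trans this).trans R2
  rintro z ⟨e, he, rfl⟩ u hu
  have he' : e < D.ne := he
  have hk : u * D.ne + e < D.nn * D.ne := by
    have : (u + 1) * D.ne ≤ D.nn * D.ne := Nat.mul_le_mul_right _ hu
    rw [Nat.succ_mul] at this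
    omega
  obtain ⟨s, hs⟩ := hc.edges _ hk
  simp only [edgeOK, edWord, Bool.and_eq_true] at hs
  have e1 : Nat.div (u * D.ne + e) D.ne = u := by
    show (u * D.ne + e) / D.ne = u
    rw [Nat.mul_comm, Nat.mul_add_div (by omega), Nat.div_eq_of_lt he', Nat.add_zero]
  have e2 : Nat.mod (u * D.ne + e) D.ne = e := by
    show (u * D.ne + e) % D.ne = e
    rw [Nat.mul_comm, Nat.mul_add_mod, Nat.mod_eq_of_lt he']
  rw [e1, e2] at hs
  obtain ⟨⟨⟨h1, h2⟩, h3⟩, h4⟩ := hs
  simp only [Nat.add_eq] at h1 h2 h4
  refine ⟨_, Nat.le_of_ble_eq_true h3, ?_⟩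
  have hne : walk D.facts D.iw (fld D.words 512 (D.nw + e)) m false (Nat.land (Nat.shiftRight s 20) 1023)
      (Nat.shiftRight s 30) (D.reps u) 0 ≠ 0 := by
    have := Nat.le_of_ble_eq_true h1
    omega
  have R := walk_sound hiv h15 hall false (D.reps u) _ _ (D.reps u) 0 _ rfl hne (Nat.zero_le _)
    (by simpa [rd, pre] using Rel.refl (H := H) (v (D.reps u)))
  rw [Nat.eq_of_beq_eq_true h2, Nat.eq_of_beq_eq_true h4] at R
  simpa [rd, pre_len] using R

/-- a finite set of cosets closed under generators and their inverses covers the generated subgroup -/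
theorem card_le {D : Data} {m : ℕ} (hc : Checked D m) (g : ℕ → G) (H : Subgroup G) [Finite H]
    (hiv : ∀ x, x < 16 → g (ivL D.iw x) = (g x)⁻¹) (h15 : g 15 = 1)
    (hrel : ∀ k, k < D.nw →
      (k < D.nr → ((wDecode (fld D.words 512 k)).map g).prod = 1) ∧
      ((wDecode (fld D.words 512 k)).map g).prod ∈ H)
    (K : Subgroup G) (S : Set G) (hS : Subgroup.closure S = K)
    (hmv : ∀ z ∈ S, z ∈ moves D g ∧ z⁻¹ ∈ moves D g) :
    Finite K ∧ Nat.card K ≤ D.nn * Nat.card H := by
  obtain ⟨v, h0, hv⟩ := closed hc g H hiv h15 hrel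
  have cov : ∀ p ∈ K, ∃ u, u < D.nn ∧ Rel H p (v (D.reps u)) := by
    intro p hp
    rw [← hS] at hp
    induction hp using Subgroup.closure_induction_right with
    | one => exact ⟨0, hc.pos, by rw [hc.rep0, h0]; exact Rel.refl _⟩
    | mul_right p _ z hz ih =>
      obtain ⟨u, hu, h⟩ := ih
      obtain ⟨c, hc', h'⟩ := hv z (hmv z hz).1 u hu
      exact ⟨c, hc', (h.mul _).trans h'⟩
    | mul_inv_cancel p _ z hz ih =>
      obtain ⟨u, hu, h⟩ := ih
      obtain ⟨c, hc', h'⟩ := hv z⁻¹ (hmv z hz).2 u hu
      exact ⟨c, hc', (h.mul _).trans h'⟩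
  have hsub : ((K : Subgroup G) : Set G) ⊆
      Set.range (fun q : Fin D.nn × H => (q.2 : G) * v (D.reps q.1)) := by
    intro p hp
    obtain ⟨u, hu, h⟩ := cov p hp
    exact ⟨(⟨u, hu⟩, ⟨_, h⟩), by simp⟩
  have hfin : ((K : Subgroup G) : Set G).Finite := (Set.finite_range _).subset hsub
  refine ⟨hfin.to_subtype, ?_⟩
  rw [← SetLike.coe_sort_coe, Nat.card_coe_set_eq]
  calc _ ≤ (Set.range (fun q : Fin D.nn × H => (q.2 : G) * v (D.reps q.1))).ncard :=
        Set.ncard_le_ncard hsub (Set.finite_range _)
    _ ≤ Nat.card (Fin D.nn × H) := by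
        rw [← Nat.card_coe_set_eq]; exact Finite.card_range_le _
    _ = _ := by simp

end Cfsg.Agent.Spor.PC
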