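import Cfsg.Agent.Lib.Spor.JFourPres.RepData
import Cfsg.Prelude.Def_Spor_J4
import Mathlib.Algebra.Group.Opposite
import Mathlib.Tactic.IntervalCases
import Mathlib.Data.Nat.Bitwise

/-!
The presented group J4 has a nontrivial action on bit vectors of length 112, so the image of x is not one.
-/

set_option autoImplicit false
set_option maxRecDepth 100000

namespace Cfsg.Agent.Spor.JFour.Rep

/-- vector times matrix -/
noncomputable def vm (A : List ℕ) : ℕ → ℕ :=
  List.rec (motive := fun _ => ℕ → ℕ) (fun _ => 0)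
    (fun r _ ih v => Nat.xor (bif Nat.beq (Nat.mod v 2) 1 then r else 0) (ih (Nat.div v 2))) A

theorem vm_nil (v : ℕ) : vm [] v = 0 := rfl

theorem vm_cons (r : ℕ) (A : List ℕ) (v : ℕ) :
    vm (r :: A) v = (bif Nat.beq (v % 2) 1 then r else 0) ^^^ vm A (v / 2) := rfl

theorem beq01 : Nat.beq 0 1 = false := rfl

theorem beq11 : Nat.beq 1 1 = true := rfl

theorem pick_xor (r a b : ℕ) : (bif Nat.beq ((a ^^^ b) % 2) 1 then r else 0) =
    (bif Nat.beq (a % 2) 1 then r else 0) ^^^ (bif Nat.beq (b % 2) 1 then r else 0) := by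
  rw [Nat.xor_mod_two_eq, Nat.add_mod]
  rcases Nat.mod_two_eq_zero_or_one a with ha | ha <;> rcases Nat.mod_two_eq_zero_or_one b with hb | hb <;>
    simp [ha, hb, beq01, beq11]

theorem vm_zero : ∀ A : List ℕ, vm A 0 = 0
  | [] => rfl
  | r :: A => by simp [vm_cons, vm_zero A, beq01]

theorem vm_xor : ∀ (A : List ℕ) (a b : ℕ), vm A (a ^^^ b) = vm A a ^^^ vm A b
  | [], a, b => by simp [vm_nil]
  | r :: A, a, b => by
    rw [vm_cons, vm_cons, vm_cons, pick_xor, Nat.xor_div_two, vm_xor A]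
    ac_rfl

theorem vm_lt {n : ℕ} : ∀ (A : List ℕ), (∀ r ∈ A, r < 2 ^ n) → ∀ v, vm A v < 2 ^ n
  | [], _, v => by rw [vm_nil]; exact Nat.two_pow_pos n
  | r :: A, h, v => by
    rw [vm_cons]
    refine Nat.xor_lt_two_pow ?_ (vm_lt A (fun x hx => h x (List.mem_cons_of_mem r hx)) _)
    cases Nat.beq (v % 2) 1 with
    | false => exact Nat.two_pow_pos n
    | true => exact h r List.mem_cons_self

/-- product of matrices -/
noncomputable def mm (A B : List ℕ) : List ℕ := List.rec (motive := fun _ => List ℕ) [] (fun r _ ih => vm B r :: ih) A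

theorem vm_mm : ∀ (A B : List ℕ) (v : ℕ), vm (mm A B) v = vm B (vm A v)
  | [], B, v => by show (0 : ℕ) = _; rw [vm_nil, vm_zero]
  | r :: A, B, v => by
    show vm (vm B r :: mm A B) v = _
    rw [vm_cons, vm_cons, vm_xor, vm_mm A B]
    cases Nat.beq (v % 2) 1 <;> simp [vm_zero]

/-- the rows of the identity -/
def idFrom : ℕ → ℕ → List ℕ
  | 0, _ => []
  | n + 1, k => Nat.pow 2 k :: idFrom n (k + 1)

theorem vm_idFrom : ∀ (n k v : ℕ), v < 2 ^ n → vm (idFrom n k) v = v <<< k
  | 0, k, v, h => by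
    have : v = 0 := by simp at h; omega
    subst this
    simp [idFrom, vm_nil]
  | n + 1, k, v, h => by
    show vm (2 ^ k :: idFrom n (k + 1)) v = _
    rw [vm_cons, vm_idFrom n (k + 1) (v / 2) (by rw [pow_succ] at h; omega)]
    have e : v = (v % 2) ^^^ ((v / 2) <<< 1) := by
      apply Nat.eq_of_testBit_eq
      intro i
      cases i with
      | zero => simp [Nat.shiftLeft_eq]
      | succ i =>
        rw [Nat.testBit_xor, Nat.testBit_shiftLeft]
        have h2 : (v % 2).testBit (i + 1) = false :=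
          Nat.testBit_lt_two_pow (lt_of_lt_of_le (Nat.mod_lt v (by norm_num)) (by
            calc (2 : ℕ) = 2 ^ 1 := rfl
              _ ≤ _ := Nat.pow_le_pow_right (by norm_num) (by omega)))
        simp [h2, Nat.testBit_add_one]
    conv_rhs => rw [e, Nat.shiftLeft_xor_distrib]
    rw [← Nat.shiftLeft_add, Nat.add_comm 1 k]
    rcases Nat.mod_two_eq_zero_or_one v with hv | hv <;> simp [hv, Nat.shiftLeft_eq, beq01, beq11]

/-- the identity matrix -/
def idM : List ℕ := idFrom 112 0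

theorem vm_idM (v : ℕ) (h : v < 2 ^ 112) : vm idM v = v := by
  rw [idM, vm_idFrom _ _ _ h, Nat.shiftLeft_zero]

/-- the vectors -/
abbrev Vec : Type := {v : ℕ // v < 2 ^ 112}

/-- are all rows short? -/
def rowsOK (A : List ℕ) : Bool := A.all fun r => Nat.blt r (2 ^ 112)

theorem rowsOK_spec {A : List ℕ} (h : rowsOK A = true) : ∀ r ∈ A, r < 2 ^ 112 := fun r hr =>
  Nat.le_of_ble_eq_true (List.all_eq_true.1 h r hr)

/-- the permutation of the vectors given by a matrix and its inverse -/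
noncomputable def act (A B : List ℕ) (hA : rowsOK A = true) (hB : rowsOK B = true) (h1 : mm A B = idM)
    (h2 : mm B A = idM) : Equiv.Perm Vec where
  toFun v := ⟨vm A v, vm_lt A (rowsOK_spec hA) _⟩
  invFun v := ⟨vm B v, vm_lt B (rowsOK_spec hB) _⟩
  left_inv v := Subtype.ext (by show vm B (vm A v) = v; rw [← vm_mm, h1, vm_idM _ v.2])
  right_inv v := Subtype.ext (by show vm A (vm B v) = v; rw [← vm_mm, h2, vm_idM _ v.2])

/-- the square of the matrix of y -/
noncomputable def matY' : List ℕ := mm matY matY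

theorem xx_ok : rowsOK matX = true ∧ mm matX matX = idM := by
  constructor <;> decide +kernel

theorem tt_ok : rowsOK matT = true ∧ mm matT matT = idM := by
  constructor <;> decide +kernel

theorem yy_ok : rowsOK matY = true ∧ rowsOK matY' = true ∧ mm matY matY' = idM ∧ mm matY' matY = idM := by
  refine ⟨?_, ?_, ?_, ?_⟩ <;> decide +kernel

open MulOpposite

/-- x -/
noncomputable def px : (Equiv.Perm Vec)ᵐᵒᵖ := op (act matX matX xx_ok.1 xx_ok.1 xx_ok.2 xx_ok.2)
/-- y -/
noncomputable def py : (Equiv.Perm Vec)ᵐᵒᵖ := op (act matY matY' yy_ok.1 yy_ok.2.1 yy_ok.2.2.1 yy_ok.2.2.2)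
/-- t -/
noncomputable def pt' : (Equiv.Perm Vec)ᵐᵒᵖ := op (act matT matT tt_ok.1 tt_ok.1 tt_ok.2 tt_ok.2)

/-- expressions -/
inductive Ex
  /-- x -/
  | x
  /-- y -/
  | y
  /-- inverse of y -/
  | y'
  /-- t -/
  | t
  /-- product -/
  | mul (a b : Ex)
  /-- power -/
  | pow (a : Ex) (n : ℕ)

/-- powers of a matrix -/
noncomputable def mpow (A : List ℕ) (n : ℕ) : List ℕ :=
  Nat.rec (motive := fun _ => List ℕ) idM (fun _ ih => mm ih A) n

/-- the matrix of an expression -/
noncomputable def Ex.mat : Ex → List ℕ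
  | .x => matX
  | .y => matY
  | .y' => matY'
  | .t => matT
  | .mul a b => mm a.mat b.mat
  | .pow a n => mpow a.mat n

/-- the value of an expression -/
noncomputable def Ex.val : Ex → (Equiv.Perm Vec)ᵐᵒᵖ
  | .x => px
  | .y => py
  | .y' => py⁻¹
  | .t => pt'
  | .mul a b => a.val * b.val
  | .pow a n => a.val ^ n

theorem Ex.mat_val : ∀ (e : Ex) (v : Vec), vm e.mat v.1 = ((unop e.val) v).1
  | .x, v => rfl
  | .y, v => rfl
  | .y', v => rfl
  | .t, v => rfl
  | .mul a b, v => by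
    show vm (mm a.mat b.mat) v.1 = ((unop (a.val * b.val)) v).1
    rw [vm_mm, Ex.mat_val a v, Ex.mat_val b, unop_mul]
    rfl
  | .pow a n, v => by
    show vm (mpow a.mat n) v.1 = ((unop (a.val ^ n)) v).1
    induction n generalizing v with
    | zero =>
      show vm idM v.1 = _
      rw [vm_idM _ v.2, pow_zero]
      rfl
    | succ n ih =>
      show vm (mm (mpow a.mat n) a.mat) v.1 = _
      rw [vm_mm, ih v, Ex.mat_val a, show a.val ^ (n + 1) = a.val ^ n * a.val from pow_succ _ _, unop_mul]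
      rfl

theorem Ex.val_one {e : Ex} (h : e.mat = idM) : e.val = 1 := by
  apply unop_injective
  apply Equiv.ext
  intro v
  apply Subtype.ext
  rw [← Ex.mat_val, h, vm_idM _ v.2]
  rfl

/-- images of the generators -/
noncomputable def gen : Cfsg.Spor.J4.Gen → (Equiv.Perm Vec)ᵐᵒᵖ
  | .x => px
  | .y => py
  | .t => pt'

instance : Mul Ex := ⟨Ex.mul⟩
instance : Pow Ex ℕ := ⟨Ex.pow⟩

theorem val_mul (a b : Ex) : (a * b).val = a.val * b.val := rfl

theorem val_pow (a : Ex) (n : ℕ) : (a ^ n).val = a.val ^ n := rfl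

section
open Ex (x y y' t)

/-- u and its inverse -/
def eu : Ex := y * x * y * ((x * y') ^ 2) * ((x * y) ^ 3)
/-- u and its inverse -/
def eu' : Ex := ((y' * x) ^ 3) * ((y * x) ^ 2) * (y' * x * y')
/-- W -/
def eW : Ex := y * x * y' * x * y * x * y' * x
/-- inverse of W -/
def eW' : Ex := x * y * x * y' * x * y * x * y'
/-- Z -/
def eZ : Ex := ((x * y) ^ 3) * y * ((x * y) ^ 6) * y
/-- inverse of Z -/
def eZ' : Ex := y' * ((y' * x) ^ 6) * y' * ((y' * x) ^ 3)

/-- the relators as expressions -/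
def exRels : List Ex :=
  [x ^ 2, y ^ 3, (x * y) ^ 23, (x * y' * x * y) ^ 12, (x * (y' * x * y') * x * (y * x * y)) ^ 5,
   (x * y * ((x * y * x * y') ^ 3)) ^ 4, ((x * y * x * y * x * y') ^ 3) * ((x * y * x * y' * x * y') ^ 3),
   t ^ 2, t * eu' * t * eu, t * x * t * x, (y * (eW' * t * eW)) ^ 3,
   (((y * x * y * x * y * x * y) ^ 3) * t * (eZ' * t * eZ)) ^ 2]

end

theorem rels_ok : ∀ i, i < 12 → (exRels.getD i Ex.x).mat = idM := by
  have h : (exRels.map fun e => decide (e.mat = idM)) = List.replicate 12 true := by decide +kernel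
  intro i hi
  have h1 : (exRels.map fun e => decide (e.mat = idM)).getD i true = true := by rw [h]; interval_cases i <;> rfl
  have hl : exRels.length = 12 := rfl
  rw [List.getD_eq_getElem _ _ (by simp [hl, hi])] at h1
  rw [List.getD_eq_getElem _ _ (by simp [hl, hi])]
  simpa using h1

theorem px_inv : px⁻¹ = px := rfl

theorem pt_inv : pt'⁻¹ = pt' := rfl

theorem gen_rels : ∀ r ∈ Cfsg.Spor.coxRelators Cfsg.Spor.J4.edges ∪ {r | r ∈ Cfsg.Spor.J4.extra},
    FreeGroup.lift gen r = 1 := by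
  rintro r (⟨a, ha, -⟩ | hr)
  · simp [Cfsg.Spor.J4.edges, Cfsg.Spor.coxNodes] at ha
  · obtain ⟨i, hi, rfl⟩ := List.getElem_of_mem hr
    have hi' : i < 12 := by simpa [Cfsg.Spor.J4.extra] using hi
    have h := Ex.val_one (rels_ok i hi')
    rw [← h]
    interval_cases i <;>
      simp [Cfsg.Spor.J4.extra, exRels, eu, eu', eW, eW', eZ, eZ', gen, val_mul, val_pow, Ex.val, px_inv, pt_inv,
        ← inv_pow, mul_assoc]

/-- the homomorphism -/
noncomputable def hom : Cfsg.Spor.J4 →* (Equiv.Perm Vec)ᵐᵒᵖ := PresentedGroup.toGroup gen_rels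

theorem x_ne : px ≠ 1 := by
  intro h
  have h' : vm matX 1 = 1 := congrArg (fun p => ((unop p) ⟨1, Nat.one_lt_two_pow (by norm_num)⟩ : Vec).1) h
  revert h'
  decide +kernel

end Cfsg.Agent.Spor.JFour.Rep
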