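import Cfsg.Agent.Lib.Spor.JFourPres.Bound
import Cfsg.Agent.Lib.Spor.JFourPres.Rep
import Cfsg.Agent.Lib.Spor.MathieuMultTwentyFour

/-!
In the presented group J4 the subgroup generated by x and y is isomorphic to M24.
-/

set_option autoImplicit false
set_option maxRecDepth 100000

namespace Cfsg.Agent.Spor.JFour

open Cfsg Cfsg.Agent.Local.FS.Mathieu Cfsg.Agent.Solv.StabCocycle Cfsg.Agent.Spor.WordChain

/-- image list of x -/
def lstX : List ℕ := [23, 12, 11, 20, 16, 17, 19, 22, 18, 10, 9, 2, 1, 21, 15, 14, 4, 5, 8, 6, 3, 13, 7, 0]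
/-- image list of the inverse of the image of y -/
def lstY : List ℕ := [6, 12, 18, 5, 1, 19, 9, 8, 20, 0, 10, 11, 4, 13, 2, 15, 21, 17, 14, 3, 7, 22, 16, 23]
/-- image list of y -/
def lstY' : List ℕ := [9, 4, 14, 19, 12, 3, 0, 20, 7, 6, 10, 11, 1, 13, 18, 15, 22, 17, 2, 5, 8, 16, 21, 23]

/-- x as a permutation of the points -/
def pXGolay : Equiv.Perm GolayPt := mkPerm lstX lstX (by decide +kernel) (by decide +kernel)

/-- y as a permutation of the points -/
def pY : Equiv.Perm GolayPt := mkPerm lstY' lstY (by decide +kernel) (by decide +kernel)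

theorem mem_X : pXGolay ∈ M24 := m24_mem_of_lst (by decide +kernel)

theorem mem_Y : pY ∈ M24 := m24_mem_of_lst (by decide +kernel)

/-- x in M24 -/
def mX : M24 := ⟨pXGolay, mem_X⟩
/-- y in M24 -/
def mY : M24 := ⟨pY, mem_Y⟩

theorem perm_rels : pXGolay ^ 2 = 1 ∧ pY ^ 3 = 1 ∧ (pXGolay * pY) ^ 23 = 1 ∧ (pXGolay⁻¹ * pY⁻¹ * pXGolay * pY) ^ 12 = 1 ∧
    (pXGolay⁻¹ * (pY * pXGolay * pY)⁻¹ * pXGolay * (pY * pXGolay * pY)) ^ 5 = 1 ∧
    (pXGolay * pY * ((pXGolay * pY * pXGolay * (pY⁻¹)) ^ 3)) ^ 4 = 1 ∧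
    ((pXGolay * pY * pXGolay * pY * pXGolay * (pY⁻¹)) ^ 3) * ((pXGolay * pY * pXGolay * (pY⁻¹) * pXGolay * (pY⁻¹)) ^ 3) = 1 := by
  refine ⟨?_, ?_, ?_, ?_, ?_, ?_, ?_⟩ <;> decide +kernel

theorem m24_rels : Rels mX mY := by
  obtain ⟨h0, h1, h2, h3, h4, h5, h6⟩ := perm_rels
  exact ⟨Subtype.ext h0, Subtype.ext h1, Subtype.ext h2, Subtype.ext h3, Subtype.ext h4, Subtype.ext h5,
    Subtype.ext h6⟩

theorem m24_gen : Subgroup.closure ({mX, mY} : Set M24) = ⊤ := by
  refine eq_top_iff.2 ?_
  rw [← MathieuMult.TwentyFour.gen_top, Subgroup.closure_le]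
  let A : ℕ → M24 := fun j => if j = 0 then mX else if j = 1 then mY⁻¹ else mY
  have hA : ∀ w : List ℕ, (∀ j ∈ w, j < 3) → ∀ σ : M24, lst σ.1 = lword [lstX, lstY, lstY'] w →
      σ ∈ Subgroup.closure ({mX, mY} : Set M24) := by
    intro w hw σ hσ
    have hj : ∀ j ∈ w, [lstX, lstY, lstY'].getD j [] = lst (A j : M24).1 := by
      intro j hj
      have := hw j hj
      rcases (show j = 0 ∨ j = 1 ∨ j = 2 by omega) with rfl | rfl | rfl <;> decide +kernel
    have e : σ.1 = evalW (fun j => (A j).1) w := lst_injective (by rw [hσ, lst_word _ _ w hj])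
    have hm : ∀ v : List ℕ, ∃ τ ∈ Subgroup.closure ({mX, mY} : Set M24), τ.1 = evalW (fun j => (A j).1) v := by
      intro v
      induction v with
      | nil => exact ⟨1, one_mem _, rfl⟩
      | cons j v ih =>
        obtain ⟨τ, hτ, e'⟩ := ih
        refine ⟨τ * A j, mul_mem hτ ?_, by rw [evalW, ← e']; rfl⟩
        simp only [A]
        split_ifs
        · exact Subgroup.subset_closure (by simp)
        · exact inv_mem (Subgroup.subset_closure (by simp))
        · exact Subgroup.subset_closure (by simp)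
    obtain ⟨τ, hτ, e'⟩ := hm w
    rwa [show σ = τ from Subtype.ext (e.trans e'.symm)]
  rintro z (rfl | rfl)
  · refine hA [0, 1, 0, 2, 0, 2, 0, 2, 0, 2, 0, 1, 0, 1, 0, 2, 0, 1, 0, 2, 0, 1, 0, 2, 0, 1, 0, 1, 0, 1, 0, 1, 0,
      1, 0, 2, 0, 2, 0, 2, 0, 2, 0, 2, 0, 1, 0, 1, 0, 2, 0, 2, 0, 1] (by decide) _ ?_
    rw [MathieuMult.TwentyFour.lst_gens.1]
    decide +kernel
  · refine hA [1, 0, 1, 0, 1, 0, 1, 0, 2, 0, 1, 0, 2, 0, 1, 0, 1, 0, 2, 0, 2, 0, 2, 0, 1, 0, 1, 0, 1, 0, 1, 0, 1, 0,
      2, 0, 2, 0, 2, 0, 1, 0, 2, 0, 2, 0, 1, 0, 2, 0, 1] (by decide) _ ?_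
    rw [MathieuMult.TwentyFour.lst_gens.2]
    decide +kernel

/-- The presentation of M24 on x and y. -/
def xyRels : Set (FreeGroup Bool) :=
  let x := FreeGroup.of false
  let y := FreeGroup.of true
  {x ^ 2, y ^ 3, (x * y) ^ 23, (x⁻¹ * y⁻¹ * x * y) ^ 12, (x⁻¹ * (y * x * y)⁻¹ * x * (y * x * y)) ^ 5,
    (x * y * ((x * y * x * (y⁻¹)) ^ 3)) ^ 4,
    ((x * y * x * y * x * (y⁻¹)) ^ 3) * ((x * y * x * (y⁻¹) * x * (y⁻¹)) ^ 3)}

/-- The presented group on x and y. -/
abbrev XY : Type := PresentedGroup xyRels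

theorem lift_rels {H : Type*} [Group H] {a b : H} (h : Rels a b) :
    ∀ r ∈ xyRels, FreeGroup.lift (fun i => bif i then b else a) r = 1 := by
  intro r hr
  simp only [xyRels, Set.mem_insert_iff, Set.mem_singleton_iff] at hr
  rcases hr with rfl | rfl | rfl | rfl | rfl | rfl | rfl
  all_goals simp only [map_mul, map_pow, map_inv, FreeGroup.lift_apply_of, cond_true, cond_false]
  exacts [h.xx, h.y3, h.r2, h.r3, h.r4, h.r5, h.r6]

/-- The map from the presented group to a group satisfying the relations. -/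
def xyLift {H : Type*} [Group H] {a b : H} (h : Rels a b) : XY →* H := PresentedGroup.toGroup (lift_rels h)

theorem xy_rels : Rels (PresentedGroup.of false : XY) (PresentedGroup.of true : XY) := by
  refine ⟨?_, ?_, ?_, ?_, ?_, ?_, ?_⟩ <;>
    simp only [PresentedGroup.of, ← map_mul, ← map_pow, ← map_inv] <;>
    exact PresentedGroup.one_of_mem (by simp [xyRels])

theorem xy_closure : Subgroup.closure ({PresentedGroup.of false, PresentedGroup.of true} : Set XY) = ⊤ := by
  refine Eq.trans ?_ (PresentedGroup.closure_range_of xyRels)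
  congr 1
  ext z
  constructor
  · rintro (rfl | rfl) <;> exact ⟨_, rfl⟩
  · rintro ⟨(_ | _), rfl⟩ <;> simp

theorem xy_bound : Finite XY ∧ Nat.card XY ≤ 3 * 244823040 := by
  obtain ⟨hf, hc⟩ := card_xy_le xy_rels
  rw [xy_closure] at hf hc
  haveI := hf
  exact ⟨Finite.of_equiv _ Subgroup.topEquiv.toEquiv, by rwa [Subgroup.card_top] at hc⟩

theorem perfect_XY : commutator XY = ⊤ := by
  rw [eq_top_iff, ← xy_closure, Subgroup.closure_le]
  have h := xy_rels
  set x := Abelianization.of (PresentedGroup.of false : XY) with hx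
  set y := Abelianization.of (PresentedGroup.of true : XY) with hy
  have e2 : x ^ 2 = 1 := by rw [hx, ← map_pow, h.xx, map_one]
  have e3 : y ^ 3 = 1 := by rw [hy, ← map_pow, h.y3, map_one]
  have e23 : x ^ 23 * y ^ 23 = 1 := by rw [← mul_pow, hx, hy, ← map_mul, ← map_pow, h.r2, map_one]
  rw [show 23 = 2 * 11 + 1 by norm_num, pow_succ x, pow_mul x, e2, one_pow, one_mul,
    show 2 * 11 + 1 = 3 * 7 + 2 by norm_num, pow_add y, pow_mul y, e3, one_pow, one_mul] at e23
  have hxy : x = y := by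
    rw [eq_inv_of_mul_eq_one_left e23]
    exact inv_eq_of_mul_eq_one_left (by rw [← pow_succ']; exact e3)
  have hx1 : x = 1 := by
    have e : x ^ 3 = 1 := by rw [hxy]; exact e3
    rwa [pow_succ, e2, one_mul] at e
  rintro z (rfl | rfl)
  · exact (QuotientGroup.eq_one_iff _).1 hx1
  · exact (QuotientGroup.eq_one_iff _).1 (show y = 1 from hxy.symm.trans hx1)

/-- The seven relations present M24. -/
theorem xy_equiv : Nonempty (XY ≃* M24) := by
  classical
  obtain ⟨hf, hc⟩ := xy_bound
  haveI := hf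
  haveI := Cfsg.Agent.Spor.simple_M24
  let ψ : XY →* M24 := xyLift m24_rels
  have hsurj : Function.Surjective ψ := by
    rw [← MonoidHom.range_eq_top, eq_top_iff, ← m24_gen, Subgroup.closure_le]
    rintro z (rfl | rfl)
    · exact ⟨PresentedGroup.of false, PresentedGroup.toGroup.of (lift_rels m24_rels)⟩
    · exact ⟨PresentedGroup.of true, PresentedGroup.toGroup.of (lift_rels m24_rels)⟩
  have hker : Nat.card ψ.ker ≤ 3 := by
    have := Subgroup.card_mul_index ψ.ker
    rw [Subgroup.index_ker, MonoidHom.range_eq_top.2 hsurj, Subgroup.card_top, card_m24] at this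
    omega
  have hcen : ψ.ker ≤ Subgroup.center XY := by
    intro k hk
    by_cases hk1 : k = 1
    · subst hk1; exact one_mem _
    let C : Subgroup XY := Subgroup.centralizer {k}
    have hker_le : ψ.ker ≤ C := by
      intro m hm
      rw [Subgroup.mem_centralizer_iff]
      intro z hz
      rw [Set.mem_singleton_iff.1 hz]
      have hcomm : ∀ a b : ψ.ker, a * b = b * a := by
        intro a b
        haveI : Finite ψ.ker := inferInstance
        have hpos : 0 < Nat.card ψ.ker := Nat.card_pos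
        rcases (show Nat.card ψ.ker = 1 ∨ (Nat.card ψ.ker).Prime by
          rcases (show Nat.card ψ.ker = 1 ∨ Nat.card ψ.ker = 2 ∨ Nat.card ψ.ker = 3 by omega) with e | e | e <;>
            rw [e] <;> norm_num) with e | e
        · haveI := (Nat.card_eq_one_iff_unique.1 e).1
          exact Subsingleton.elim _ _
        · haveI := Fact.mk e
          haveI : IsCyclic ψ.ker := isCyclic_of_prime_card rfl
          obtain ⟨g, hg⟩ := IsCyclic.exists_generator (α := ψ.ker)
          obtain ⟨i, rfl⟩ := Subgroup.mem_zpowers_iff.1 (hg a)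
          obtain ⟨j, rfl⟩ := Subgroup.mem_zpowers_iff.1 (hg b)
          exact (Commute.zpow_zpow_self g i j).eq
      exact congrArg Subtype.val (hcomm ⟨k, hk⟩ ⟨m, hm⟩)
    have hidx : C.index ≤ 2 := by
      let f : XY ⧸ C → {z : ψ.ker // z ≠ 1} := fun q => Quotient.liftOn' q
        (fun g => ⟨⟨g * k * g⁻¹, by
          simpa using (MonoidHom.normal_ker ψ).conj_mem k hk g⟩, by
          intro e
          apply hk1
          have e' : g * k * g⁻¹ = 1 := congrArg Subtype.val e
          simpa [mul_assoc] using congrArg (fun z => g⁻¹ * z * g) e'⟩)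
        (fun a b hab => by
          rw [QuotientGroup.leftRel_apply, Subgroup.mem_centralizer_iff] at hab
          apply Subtype.ext; apply Subtype.ext
          show a * k * a⁻¹ = b * k * b⁻¹
          have e := hab k rfl
          calc a * k * a⁻¹ = a * (k * (a⁻¹ * b)) * b⁻¹ := by group
            _ = a * ((a⁻¹ * b) * k) * b⁻¹ := by rw [e]
            _ = b * k * b⁻¹ := by group)
      have finj : Function.Injective f := by
        intro p q
        induction p using QuotientGroup.induction_on with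
        | H a =>
          induction q using QuotientGroup.induction_on with
          | H b =>
            intro e
            have e' : a * k * a⁻¹ = b * k * b⁻¹ := congrArg Subtype.val (congrArg Subtype.val e)
            rw [QuotientGroup.eq, Subgroup.mem_centralizer_iff]
            intro z hz
            rw [Set.mem_singleton_iff.1 hz]
            calc k * (a⁻¹ * b) = a⁻¹ * (a * k * a⁻¹) * b := by group
              _ = a⁻¹ * (b * k * b⁻¹) * b := by rw [e']
              _ = a⁻¹ * b * k := by group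
      refine le_trans (Nat.card_le_card_of_injective f finj) ?_
      have h1 : Nat.card {z : ψ.ker // z ≠ 1} + 1 = Nat.card ψ.ker := by
        rw [← Nat.card_congr (Equiv.sumCompl fun z : ψ.ker => z ≠ 1), Nat.card_sum]
        congr 1
        exact (Nat.card_eq_one_iff_unique.2 ⟨⟨fun a b => Subtype.ext ((not_not.1 a.2).trans (not_not.1 b.2).symm)⟩,
          ⟨⟨1, fun h => h rfl⟩⟩⟩).symm
      omega
    have hmap : (C.map ψ).index ≤ 2 := by
      rw [Subgroup.index_map_eq _ hsurj hker_le]
      exact hidx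
    have htop : C.map ψ = ⊤ := by
      rcases Nat.lt_or_ge (C.map ψ).index 2 with h | h
      · exact Subgroup.index_eq_one.1 (by have := Subgroup.index_ne_zero_of_finite (H := C.map ψ); omega)
      · have h2 : (C.map ψ).index = 2 := by omega
        haveI := Subgroup.normal_of_index_eq_two h2
        rcases Subgroup.Normal.eq_bot_or_eq_top (H := C.map ψ) inferInstance with e | e
        · exfalso
          rw [e, Subgroup.index_bot, card_m24] at h2
          omega
        · exact e
    have hC : C = ⊤ := by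
      have := congrArg (Subgroup.comap ψ) htop
      rwa [Subgroup.comap_top, Subgroup.comap_map_eq, sup_eq_left.2 hker_le] at this
    rw [Subgroup.mem_center_iff]
    intro g
    have hg : g ∈ C := by rw [hC]; trivial
    exact ((Subgroup.mem_centralizer_iff.1 hg) k rfl).symm
  have hstem : IsStemExtension ψ := ⟨hsurj, hcen, by rw [perfect_XY]; exact le_top⟩
  obtain ⟨g, hg, hall⟩ := MathieuMult.TwentyFour.bound XY ψ hstem
  have hbot : ∀ k ∈ ψ.ker, k = 1 := by
    intro k hk
    obtain ⟨m, hm⟩ := Subgroup.mem_zpowers_iff.1 (hall ⟨k, hk⟩)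
    rw [pow_one] at hg
    rw [hg, one_zpow] at hm
    exact congrArg Subtype.val hm.symm
  exact ⟨MulEquiv.ofBijective ψ ⟨(MonoidHom.ker_eq_bot_iff ψ).1 ((Subgroup.eq_bot_iff_forall _).2 hbot), hsurj⟩⟩

theorem j4_xy : Nonempty ((((Subgroup.closure ({Cfsg.Spor.J4.x, Cfsg.Spor.J4.y} :
    Set (FreeGroup Cfsg.Spor.J4.Gen))).map
    (PresentedGroup.mk (Cfsg.Spor.coxRelators Cfsg.Spor.J4.edges ∪ {r | r ∈ Cfsg.Spor.J4.extra})))) ≃* M24) := by
  obtain ⟨e⟩ := xy_equiv
  haveI := Cfsg.Agent.Spor.simple_M24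
  let X : Cfsg.Spor.J4 := PresentedGroup.of .x
  let Y : Cfsg.Spor.J4 := PresentedGroup.of .y
  have hr : Rels X Y := by
    have he : ∀ r ∈ Cfsg.Spor.J4.extra,
        PresentedGroup.mk (Cfsg.Spor.coxRelators Cfsg.Spor.J4.edges ∪ {r | r ∈ Cfsg.Spor.J4.extra}) r = 1 :=
      fun r h => PresentedGroup.one_of_mem (Or.inr h)
    refine ⟨?_, ?_, ?_, ?_, ?_, ?_, ?_⟩ <;>
      simp only [X, Y, PresentedGroup.of, ← map_mul, ← map_pow, ← map_inv] <;>
      exact he _ (by simp [Cfsg.Spor.J4.extra])
  let φ : M24 →* Cfsg.Spor.J4 := (xyLift hr).comp e.symm.toMonoidHom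
  have hrange : φ.range = Subgroup.closure ({X, Y} : Set Cfsg.Spor.J4) := by
    rw [MonoidHom.range_comp, MonoidHom.range_eq_top.2 e.symm.surjective, ← xy_closure, MonoidHom.map_closure,
      Set.image_pair]
    simp only [xyLift, PresentedGroup.toGroup.of]
    rfl
  have hX : X ≠ 1 := by
    intro h
    apply Rep.x_ne
    have h' := congrArg Rep.hom h
    rw [map_one] at h'
    rw [← h']
    show Rep.hom (PresentedGroup.of Cfsg.Spor.J4.Gen.x) = Rep.gen Cfsg.Spor.J4.Gen.x
    exact PresentedGroup.toGroup.of Rep.gen_rels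
  have hinj : Function.Injective φ := by
    rcases Subgroup.Normal.eq_bot_or_eq_top (H := φ.ker) inferInstance with h | h
    · exact (MonoidHom.ker_eq_bot_iff φ).1 h
    · exfalso
      apply hX
      have hm : X ∈ φ.range := by rw [hrange]; exact Subgroup.subset_closure (by simp)
      obtain ⟨m, hm⟩ := hm
      rw [← hm]
      exact MonoidHom.mem_ker.1 (by rw [h]; trivial)
  refine ⟨(MulEquiv.subgroupCongr ?_).trans (MonoidHom.ofInjective hinj).symm⟩
  rw [hrange, MonoidHom.map_closure, Set.image_pair]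
  rfl

end Cfsg.Agent.Spor.JFour
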